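import Cfsg.Agent.H389.R.Def
import Cfsg.Agent.Lib.Zsigmondy

/-!
# S3530, part NT: primes (helper352)
-/

set_option autoImplicit false

namespace Cfsg.Agent.H389.RSq

open Subgroup
open Cfsg.Agent.H389.JSq (Has)

universe u v

namespace NT

theorem three_dvd {n : ℕ} (hn : n ≠ 0) : 3 ∣ 3 ^ n := dvd_pow_self 3 hn

theorem le_q {m : ℕ} (hm : 1 ≤ m) : 27 ≤ 3 ^ (2 * m + 1) := by
  calc 27 = 3 ^ 3 := by norm_num
    _ ≤ 3 ^ (2 * m + 1) := Nat.pow_le_pow_right (by norm_num) (by omega)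

/-- `(q - t + 1) (q + t + 1) = q² - q + 1` -/
theorem AB (m : ℕ) : ((3 ^ (2 * m + 1) - 3 ^ (m + 1) + 1) * (3 ^ (2 * m + 1) + 3 ^ (m + 1) + 1)) + 3 ^ (2 * m + 1) =
    (3 ^ (2 * m + 1)) ^ 2 + 1 := by
  have h1 : 3 ^ (m + 1) * 3 ^ (m + 1) = 3 * 3 ^ (2 * m + 1) := by
    rw [← pow_add, ← pow_succ']
    congr 1
    omega
  have h2 : 3 ^ (m + 1) ≤ 3 ^ (2 * m + 1) := Nat.pow_le_pow_right (by norm_num) (by omega)
  obtain ⟨s, hs⟩ := Nat.exists_eq_add_of_le h2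
  generalize 3 ^ (2 * m + 1) = q at *
  generalize 3 ^ (m + 1) = t at *
  subst hs
  rw [Nat.add_sub_cancel_left]
  nlinarith

theorem cube (m : ℕ) : (3 ^ (2 * m + 1)) ^ 3 + 1 = (3 ^ (2 * m + 1) + 1) *
    ((3 ^ (2 * m + 1) - 3 ^ (m + 1) + 1) * (3 ^ (2 * m + 1) + 3 ^ (m + 1) + 1)) := by
  have h1 := AB m
  generalize (3 ^ (2 * m + 1) - 3 ^ (m + 1) + 1) * (3 ^ (2 * m + 1) + 3 ^ (m + 1) + 1) = D at *
  generalize 3 ^ (2 * m + 1) = q at *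
  nlinarith

theorem dvd_six {p n : ℕ} (h : p ∣ (3 ^ n) ^ 3 + 1) : p ∣ 3 ^ (6 * n) - 1 := by
  have h1 : 3 ^ (6 * n) - 1 = ((3 ^ n) ^ 3 + 1) * ((3 ^ n) ^ 3 - 1) := by
    have h2 : 3 ^ (6 * n) = ((3 ^ n) ^ 3) * ((3 ^ n) ^ 3) := by
      rw [← pow_mul, ← pow_add]; congr 1; ring
    rw [h2]
    obtain ⟨s, hs⟩ := Nat.exists_eq_add_of_le' (show 1 ≤ (3 ^ n) ^ 3 from Nat.one_le_pow _ _ (by positivity))
    rw [hs, Nat.add_sub_cancel]
    have : (s + 1) * (s + 1) = (s + 1 + 1) * s + 1 := by ring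
    rw [this, Nat.add_sub_cancel]
  rw [h1]
  exact h.mul_right _

theorem dvd_two_of {p a : ℕ} (h1 : p ∣ a - 1) (h2 : p ∣ a + 1) (ha : 1 ≤ a) : p ∣ 2 := by
  have h3 := Nat.dvd_sub h2 h1
  have h4 : a + 1 - (a - 1) = 2 := by omega
  rwa [h4] at h3

theorem pow_sub_dvd {a b : ℕ} (h : a ∣ b) : 3 ^ a - 1 ∣ 3 ^ b - 1 := by
  obtain ⟨c, rfl⟩ := h
  rw [pow_mul]
  have := Nat.sub_dvd_pow_sub_pow (3 ^ a) 1 c
  rwa [one_pow] at this

theorem dvd_card_iff {m p : ℕ} (hp : p.Prime) (h3 : p ≠ 3) :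
    p ∣ reeCard m ↔ p ∣ (3 ^ (2 * m + 1)) ^ 3 + 1 ∨ p ∣ 3 ^ (2 * m + 1) - 1 := by
  unfold reeCard
  rw [hp.dvd_mul, hp.dvd_mul]
  constructor
  · rintro ((h | h) | h)
    · exact absurd ((Nat.prime_dvd_prime_iff_eq hp Nat.prime_three).1 (hp.dvd_of_dvd_pow (hp.dvd_of_dvd_pow h))) h3
    · exact Or.inl h
    · exact Or.inr h
  · rintro (h | h)
    · exact Or.inl (Or.inr h)
    · exact Or.inr h

/-- the primes of `q² - q + 1` -/
theorem prime_D {m p : ℕ} (hp : p.Prime)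
    (h : p ∣ (3 ^ (2 * m + 1) - 3 ^ (m + 1) + 1) * (3 ^ (2 * m + 1) + 3 ^ (m + 1) + 1)) :
    p ≠ 2 ∧ p ≠ 3 ∧ ¬ p ∣ 3 ^ (2 * m + 1) - 1 ∧ ¬ p ∣ 3 ^ (2 * m + 1) + 1 := by
  have h1 := AB m
  have h3 : 3 ∣ 3 ^ (2 * m + 1) := three_dvd (by omega)
  have hodd : Odd (3 ^ (2 * m + 1)) := Odd.pow (by decide)
  have hq : 3 ≤ 3 ^ (2 * m + 1) := Nat.le_of_dvd (by positivity) h3
  generalize (3 ^ (2 * m + 1) - 3 ^ (m + 1) + 1) * (3 ^ (2 * m + 1) + 3 ^ (m + 1) + 1) = D at *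
  generalize 3 ^ (2 * m + 1) = q at *
  have hp3 : p ≠ 3 := by
    rintro rfl
    have h4 : 3 ∣ q ^ 2 + 1 := by rw [← h1]; exact dvd_add h h3
    have h5 : 3 ∣ 1 := (Nat.dvd_add_right (dvd_pow h3 two_ne_zero)).1 h4
    norm_num at h5
  refine ⟨?_, hp3, ?_, ?_⟩
  · rintro rfl
    obtain ⟨k, hk⟩ := hodd
    obtain ⟨e, he⟩ := h
    have h4 : q ^ 2 = 4 * (k * k + k) + 1 := by rw [hk]; ring
    generalize k * k = kk at *
    omega
  · intro h4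
    have h5 : D = (q - 1) * q + 1 := by
      obtain ⟨x, rfl⟩ := Nat.exists_eq_add_of_le' hq
      have : x + 3 - 1 = x + 2 := by omega
      rw [this]
      nlinarith
    rw [h5] at h
    exact hp.one_lt.ne' (Nat.dvd_one.1 ((Nat.dvd_add_right (h4.mul_right q)).1 h))
  · intro h4
    have h5 : D = (q + 1) * (q - 2) + 3 := by
      obtain ⟨x, rfl⟩ := Nat.exists_eq_add_of_le' hq
      have : x + 3 - 2 = x + 1 := by omega
      rw [this]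
      nlinarith
    rw [h5] at h
    exact hp3 ((Nat.prime_dvd_prime_iff_eq hp Nat.prime_three).1 ((Nat.dvd_add_right (h4.mul_right _)).1 h))

/-- `q - t + 1` and `q + t + 1` have no common prime -/
theorem coprime_AB {m p : ℕ} (hp : p.Prime) (hA : p ∣ 3 ^ (2 * m + 1) - 3 ^ (m + 1) + 1)
    (hB : p ∣ 3 ^ (2 * m + 1) + 3 ^ (m + 1) + 1) : False := by
  obtain ⟨h2, h3, -, -⟩ := prime_D hp (hA.mul_right (3 ^ (2 * m + 1) + 3 ^ (m + 1) + 1))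
  have h4 := Nat.dvd_sub hB hA
  have h5 : 3 ^ (m + 1) ≤ 3 ^ (2 * m + 1) := Nat.pow_le_pow_right (by norm_num) (by omega)
  have h6 : 3 ^ (2 * m + 1) + 3 ^ (m + 1) + 1 - (3 ^ (2 * m + 1) - 3 ^ (m + 1) + 1) = 2 * 3 ^ (m + 1) := by omega
  rw [h6, hp.dvd_mul] at h4
  rcases h4 with h4 | h4
  · exact h2 ((Nat.prime_dvd_prime_iff_eq hp Nat.prime_two).1 h4)
  · exact h3 ((Nat.prime_dvd_prime_iff_eq hp Nat.prime_three).1 (hp.dvd_of_dvd_pow h4))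

theorem cls_A {m p : ℕ} (hp : p.Prime) (hA : p ∣ 3 ^ (2 * m + 1) - 3 ^ (m + 1) + 1) : cls m p = 3 := by
  obtain ⟨h2, h3, h4, h5⟩ := prime_D hp (hA.mul_right (3 ^ (2 * m + 1) + 3 ^ (m + 1) + 1))
  rw [cls, if_neg h3, if_neg h4, if_neg h5, if_pos hA]

theorem cls_B {m p : ℕ} (hp : p.Prime) (hB : p ∣ 3 ^ (2 * m + 1) + 3 ^ (m + 1) + 1) : cls m p = 4 := by
  obtain ⟨h2, h3, h4, h5⟩ := prime_D hp (hB.mul_left (3 ^ (2 * m + 1) - 3 ^ (m + 1) + 1))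
  rw [cls, if_neg h3, if_neg h4, if_neg h5, if_neg fun hA => coprime_AB hp hA hB]

theorem A_gt {m : ℕ} (hm : 1 ≤ m) : 3 ^ (2 * m + 1) - 3 ^ (m + 1) + 1 ≠ 1 := by
  have h1 : 3 ^ (m + 1) < 3 ^ (2 * m + 1) := Nat.pow_lt_pow_right (by norm_num) (by omega)
  omega

/-- the four primes -/
structure Dat (m r₁ r₂ r a b : ℕ) : Prop where
  p₁ : r₁.Prime
  p₂ : r₂.Prime
  p : r.Prime
  pa : a.Prime
  pb : b.Prime
  o₁ : ∀ j, r₁ ∣ 3 ^ j - 1 ↔ 2 * m + 1 ∣ j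
  o₂ : ∀ j, r₂ ∣ 3 ^ j - 1 ↔ 2 * (2 * m + 1) ∣ j
  o : ∀ j, r ∣ 3 ^ j - 1 ↔ 6 * (2 * m + 1) ∣ j
  l₁ : 2 * m + 1 ∣ r₁ - 1
  l₂ : 2 * (2 * m + 1) ∣ r₂ - 1
  l : 6 * (2 * m + 1) ∣ r - 1
  t₁ : ¬ r₁ ∣ 3
  t₂ : ¬ r₂ ∣ 3
  t : ¬ r ∣ 3
  da : a ∣ 3 ^ (2 * m + 1) - 3 ^ (m + 1) + 1
  db : b ∣ 3 ^ (2 * m + 1) + 3 ^ (m + 1) + 1
  or : a = r ∨ b = r

theorem ne_three {p : ℕ} (h : ¬ p ∣ 3) : p ≠ 3 := by
  rintro rfl
  exact h dvd_rfl

theorem exists_dat {m : ℕ} (hm : 1 ≤ m) : ∃ r₁ r₂ r a b, Dat m r₁ r₂ r a b := by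
  obtain ⟨r₁, p₁, o₁, l₁, t₁⟩ := Lib.Zsigmondy.exists_primitive (a := 3) (n := 2 * m + 1) (by norm_num) (by omega)
    (by omega) (by omega)
  obtain ⟨r₂, p₂, o₂, l₂, t₂⟩ := Lib.Zsigmondy.exists_primitive (a := 3) (n := 2 * (2 * m + 1)) (by norm_num)
    (by omega) (by omega) (by omega)
  obtain ⟨r, p, o, l, t⟩ := Lib.Zsigmondy.exists_primitive (a := 3) (n := 6 * (2 * m + 1)) (by norm_num)
    (by omega) (by omega) (by omega)
  have h1 : r ∣ 3 ^ (6 * (2 * m + 1)) - 1 := (o _).2 dvd_rfl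
  have h2 : 3 ^ (6 * (2 * m + 1)) - 1 = (3 ^ (3 * (2 * m + 1)) - 1) * ((3 ^ (2 * m + 1)) ^ 3 + 1) := by
    have h3 : 3 ^ (6 * (2 * m + 1)) = ((3 ^ (2 * m + 1)) ^ 3) * ((3 ^ (2 * m + 1)) ^ 3) := by
      rw [← pow_mul, ← pow_add]; congr 1; ring
    have h4 : 3 ^ (3 * (2 * m + 1)) = (3 ^ (2 * m + 1)) ^ 3 := by rw [← pow_mul, mul_comm]
    rw [h3, h4]
    obtain ⟨s, hs⟩ := Nat.exists_eq_add_of_le' (show 1 ≤ (3 ^ (2 * m + 1)) ^ 3 from Nat.one_le_pow _ _ (by positivity))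
    rw [hs, Nat.add_sub_cancel]
    have : (s + 1) * (s + 1) = s * (s + 1 + 1) + 1 := by ring
    rw [this, Nat.add_sub_cancel]
  rw [h2, p.dvd_mul] at h1
  have h5 : r ∣ (3 ^ (2 * m + 1)) ^ 3 + 1 := by
    rcases h1 with h1 | h1
    · rw [o] at h1
      have := Nat.le_of_dvd (by omega) h1
      omega
    · exact h1
  rw [cube, p.dvd_mul] at h5
  have h6 : r ∣ (3 ^ (2 * m + 1) - 3 ^ (m + 1) + 1) * (3 ^ (2 * m + 1) + 3 ^ (m + 1) + 1) := by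
    rcases h5 with h5 | h5
    · exfalso
      have h7 : r ∣ 3 ^ (2 * (2 * m + 1)) - 1 := by
        have h8 : 3 ^ (2 * (2 * m + 1)) - 1 = (3 ^ (2 * m + 1) + 1) * (3 ^ (2 * m + 1) - 1) := by
          rw [mul_comm 2, pow_mul]
          obtain ⟨s, hs⟩ := Nat.exists_eq_add_of_le' (show 1 ≤ 3 ^ (2 * m + 1) from Nat.one_le_pow _ _ (by positivity))
          rw [hs, Nat.add_sub_cancel]
          have : (s + 1) ^ 2 = (s + 1 + 1) * s + 1 := by ring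
          rw [this, Nat.add_sub_cancel]
        rw [h8]
        exact h5.mul_right _
      rw [o] at h7
      have := Nat.le_of_dvd (by omega) h7
      omega
    · exact h5
  obtain ⟨a', pa', da'⟩ := Nat.exists_prime_and_dvd (A_gt hm)
  obtain ⟨b', pb', db'⟩ := Nat.exists_prime_and_dvd (show 3 ^ (2 * m + 1) + 3 ^ (m + 1) + 1 ≠ 1 by
    have h0 : 0 < 3 ^ (m + 1) := by positivity
    have h0' : 0 < 3 ^ (2 * m + 1) := by positivity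
    omega)
  rcases p.dvd_mul.1 h6 with h7 | h7
  · exact ⟨r₁, r₂, r, r, b', p₁, p₂, p, p, pb', o₁, o₂, o, l₁, l₂, l, t₁, t₂, t, h7, db', Or.inl rfl⟩
  · exact ⟨r₁, r₂, r, a', r, p₁, p₂, p, pa', p, o₁, o₂, o, l₁, l₂, l, t₁, t₂, t, da', h7, Or.inr rfl⟩

/-- the order `reeCard m₁` when all its primes divide `reeCard m` -/
theorem sub_of {m m₁ : ℕ} (h1 : 1 ≤ m₁) (hne : m₁ ≠ m) (h : ∀ p : ℕ, p.Prime → p ∣ reeCard m₁ → p ∣ reeCard m) :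
    2 * m₁ + 1 ∣ 2 * m + 1 ∧ 2 * m₁ + 1 < 2 * m + 1 := by
  obtain ⟨s₁, s₂, s, c, d, E⟩ := exists_dat h1
  have h2 : s ∣ (3 ^ (2 * m₁ + 1)) ^ 3 + 1 := by
    rw [cube]
    rcases E.or with h3 | h3
    · rw [← h3]; exact (E.da.mul_right _).mul_left _
    · rw [← h3]; exact (E.db.mul_left _).mul_left _
  have h3 := h s E.p ((dvd_card_iff E.p (ne_three E.t)).2 (Or.inl h2))
  rw [dvd_card_iff E.p (ne_three E.t)] at h3
  have h4 : s ∣ 3 ^ (6 * (2 * m + 1)) - 1 := by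
    rcases h3 with h3 | h3
    · exact dvd_six h3
    · exact h3.trans (pow_sub_dvd (Dvd.intro_left 6 rfl))
  rw [E.o] at h4
  have h5 : 2 * m₁ + 1 ∣ 2 * m + 1 := Nat.dvd_of_mul_dvd_mul_left (by norm_num) h4
  refine ⟨h5, lt_of_le_of_ne (Nat.le_of_dvd (by omega) h5) (by omega)⟩

section
variable {m r₁ r₂ r a b : ℕ} (D : Dat m r₁ r₂ r a b)
include D

theorem Dat.lt_one : 2 * m + 1 < r₁ := by
  have h1 := D.p₁.two_le
  have h2 := Nat.le_of_dvd (by omega) D.l₁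
  omega

theorem Dat.lt_two : 2 * (2 * m + 1) < r₂ := by
  have h1 := D.p₂.two_le
  have h2 := Nat.le_of_dvd (by omega) D.l₂
  omega

theorem Dat.lt_r : 6 * (2 * m + 1) < r := by
  have h1 := D.p.two_le
  have h2 := Nat.le_of_dvd (by omega) D.l
  omega

theorem Dat.dvd_one : r₁ ∣ 3 ^ (2 * m + 1) - 1 := (D.o₁ _).2 dvd_rfl

theorem Dat.cls_one : cls m r₁ = 1 := by
  rw [cls, if_neg (ne_three D.t₁), if_pos D.dvd_one]

theorem Dat.dvd_two : ¬ r₂ ∣ 3 ^ (2 * m + 1) - 1 ∧ r₂ ∣ 3 ^ (2 * m + 1) + 1 := by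
  have h1 : ¬ r₂ ∣ 3 ^ (2 * m + 1) - 1 := by
    intro h
    have := Nat.le_of_dvd (by omega) ((D.o₂ _).1 h)
    omega
  refine ⟨h1, ?_⟩
  have h2 : r₂ ∣ 3 ^ (2 * (2 * m + 1)) - 1 := (D.o₂ _).2 dvd_rfl
  have h8 : 3 ^ (2 * (2 * m + 1)) - 1 = (3 ^ (2 * m + 1) + 1) * (3 ^ (2 * m + 1) - 1) := by
    rw [mul_comm 2, pow_mul]
    obtain ⟨s, hs⟩ := Nat.exists_eq_add_of_le' (show 1 ≤ 3 ^ (2 * m + 1) from Nat.one_le_pow _ _ (by positivity))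
    rw [hs, Nat.add_sub_cancel]
    have : (s + 1) ^ 2 = (s + 1 + 1) * s + 1 := by ring
    rw [this, Nat.add_sub_cancel]
  rw [h8, D.p₂.dvd_mul] at h2
  exact h2.resolve_right h1

theorem Dat.cls_two : cls m r₂ = 2 := by
  rw [cls, if_neg (ne_three D.t₂), if_neg D.dvd_two.1, if_pos D.dvd_two.2]

theorem Dat.not_one {m₁ : ℕ} (h1 : 1 ≤ m₁) (hlt : 2 * m₁ + 1 < 2 * m + 1) : ¬ r₁ ∣ reeCard m₁ := by
  rw [dvd_card_iff D.p₁ (ne_three D.t₁)]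
  rintro (h | h)
  · have h2 := dvd_six h
    rw [D.o₁] at h2
    have h3 : 2 * m + 1 ∣ 3 * (2 * m₁ + 1) := by
      have h4 : Nat.Coprime (2 * m + 1) 2 := by
        rw [Nat.coprime_two_right]
        exact ⟨m, rfl⟩
      apply h4.dvd_of_dvd_mul_left
      have h5 : 2 * (3 * (2 * m₁ + 1)) = 6 * (2 * m₁ + 1) := by ring
      rw [h5]
      exact h2
    rw [← D.o₁, mul_comm, pow_mul] at h3
    have h4 := dvd_two_of h3 h (Nat.one_le_pow _ _ (by positivity))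
    have h5 := Nat.le_of_dvd (by norm_num) h4
    have h6 := D.lt_one
    omega
  · rw [D.o₁] at h
    have := Nat.le_of_dvd (by omega) h
    omega

theorem Dat.not_r {m₁ : ℕ} (h1 : 1 ≤ m₁) (hlt : 2 * m₁ + 1 < 2 * m + 1) : ¬ r ∣ reeCard m₁ := by
  rw [dvd_card_iff D.p (ne_three D.t)]
  rintro (h | h)
  · have h2 := dvd_six h
    rw [D.o] at h2
    have := Nat.le_of_dvd (by omega) h2
    omega
  · rw [D.o] at h
    have := Nat.le_of_dvd (by omega) h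
    omega

theorem Dat.not_two {m₁ : ℕ} (h1 : 1 ≤ m₁) (hd : 2 * m₁ + 1 ∣ 2 * m + 1) (hlt : 2 * m₁ + 1 < 2 * m + 1)
    (h3 : 3 * (2 * m₁ + 1) ≠ 2 * m + 1) : ¬ r₂ ∣ reeCard m₁ := by
  rw [dvd_card_iff D.p₂ (ne_three D.t₂)]
  rintro (h | h)
  · have h2 := dvd_six h
    rw [D.o₂] at h2
    have h4 : 2 * m + 1 ∣ 3 * (2 * m₁ + 1) := by
      have h5 : 6 * (2 * m₁ + 1) = 2 * (3 * (2 * m₁ + 1)) := by ring
      rw [h5] at h2
      exact Nat.dvd_of_mul_dvd_mul_left (by norm_num) h2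
    obtain ⟨c, hc⟩ := hd
    rw [hc, mul_comm 3] at h4
    have h5 := Nat.dvd_of_mul_dvd_mul_left (by omega) h4
    rcases (Nat.dvd_prime Nat.prime_three).1 h5 with h6 | h6
    · rw [h6] at hc
      omega
    · rw [h6] at hc
      omega
  · rw [D.o₂] at h
    have := Nat.le_of_dvd (by omega) h
    omega

omit D in
/-- case `n = 3 n₁` -/
theorem not_D {m₁ p : ℕ} (h3 : 3 * (2 * m₁ + 1) = 2 * m + 1) (hp : p.Prime)
    (h : p ∣ (3 ^ (2 * m + 1) - 3 ^ (m + 1) + 1) * (3 ^ (2 * m + 1) + 3 ^ (m + 1) + 1)) : ¬ p ∣ reeCard m₁ := by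
  obtain ⟨h5, h6, h7, h8⟩ := prime_D hp h
  rw [dvd_card_iff hp h6]
  rintro (h9 | h9)
  · rw [← pow_mul, mul_comm _ 3, h3] at h9
    exact h8 h9
  · apply h7
    exact h9.trans (pow_sub_dvd ⟨3, by rw [← h3, mul_comm]⟩)

end

end NT

open NT in
theorem exists_sig {m : ℕ} (hm : 1 ≤ m) : ∃ σ, Sig m σ := by
  obtain ⟨r₁, r₂, r, a, b, D⟩ := exists_dat hm
  have hA := D.da.mul_right (3 ^ (2 * m + 1) + 3 ^ (m + 1) + 1)
  have hB := D.db.mul_left (3 ^ (2 * m + 1) - 3 ^ (m + 1) + 1)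
  have hAc : a ∣ (3 ^ (2 * m + 1)) ^ 3 + 1 := by rw [cube]; exact hA.mul_left _
  have hBc : b ∣ (3 ^ (2 * m + 1)) ^ 3 + 1 := by rw [cube]; exact hB.mul_left _
  obtain ⟨a2, a3, -, -⟩ := prime_D D.pa hA
  obtain ⟨b2, b3, -, -⟩ := prime_D D.pb hB
  have hr₂c : r₂ ∣ (3 ^ (2 * m + 1)) ^ 3 + 1 := by rw [cube]; exact D.dvd_two.2.mul_right _
  have l1 := D.lt_one
  have l2 := D.lt_two
  have l3 := D.lt_r
  refine ⟨![3, r₁, r₂, a, b], ?_, ?_, ?_, rfl, ?_, ?_, ?_, ?_, ?_⟩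
  · intro i
    fin_cases i
    exacts [Nat.prime_three, D.p₁, D.p₂, D.pa, D.pb]
  · intro i
    fin_cases i
    exacts [by show (3 : ℕ) ≠ 2; norm_num, by show r₁ ≠ 2; omega, by show r₂ ≠ 2; omega, a2, b2]
  · intro i
    fin_cases i
    exacts [by show cls m 3 = 0; rw [cls, if_pos rfl], D.cls_one, D.cls_two, cls_A D.pa D.da, cls_B D.pb D.db]
  · intro i
    fin_cases i
    · show 3 ∣ reeCard m
      unfold reeCard
      exact ((dvd_pow (three_dvd (by omega)) (by norm_num)).mul_right _).mul_right _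
    · exact (dvd_card_iff D.p₁ (ne_three D.t₁)).2 (Or.inr D.dvd_one)
    · exact (dvd_card_iff D.p₂ (ne_three D.t₂)).2 (Or.inl hr₂c)
    · exact (dvd_card_iff D.pa a3).2 (Or.inl hAc)
    · exact (dvd_card_iff D.pb b3).2 (Or.inl hBc)
  · intro h
    have h1 : r₁ ≤ 2 * m + 1 := Nat.le_of_dvd (by omega) h
    omega
  · intro h
    have h1 : r₂ ≤ 2 * m + 1 := Nat.le_of_dvd (by omega) h
    omega
  · rcases D.or with h | h
    · refine ⟨3, Or.inl rfl, fun h' => ?_⟩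
      have h1 : a ≤ 2 * m + 1 := Nat.le_of_dvd (by omega) h'
      omega
    · refine ⟨4, Or.inr rfl, fun h' => ?_⟩
      have h1 : b ≤ 2 * m + 1 := Nat.le_of_dvd (by omega) h'
      omega
  · intro m₁ hm₁ hne h
    obtain ⟨hd, hlt⟩ := sub_of hm₁ hne h
    have n1 := D.not_one hm₁ hlt
    have nr := D.not_r hm₁ hlt
    have key : ∃ i j : Fin 5, ∀ k : Fin 5, (![3, r₁, r₂, a, b] : Fin 5 → ℕ) k ∣ reeCard m₁ → k = i ∨ k = j := by
      by_cases h3 : 3 * (2 * m₁ + 1) = 2 * m + 1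
      · have na := not_D h3 D.pa hA
        have nb := not_D h3 D.pb hB
        refine ⟨0, 2, fun k hk => ?_⟩
        fin_cases k
        exacts [Or.inl rfl, absurd hk n1, Or.inr rfl, absurd hk na, absurd hk nb]
      · have n2 := D.not_two hm₁ hd hlt h3
        rcases D.or with h' | h'
        · refine ⟨0, 4, fun k hk => ?_⟩
          fin_cases k
          exacts [Or.inl rfl, absurd hk n1, absurd hk n2, absurd hk (by show ¬ a ∣ _; rw [h']; exact nr), Or.inr rfl]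
        · refine ⟨0, 3, fun k hk => ?_⟩
          fin_cases k
          exacts [Or.inl rfl, absurd hk n1, absurd hk n2, Or.inr rfl, absurd hk (by show ¬ b ∣ _; rw [h']; exact nr)]
    obtain ⟨i, j, hij⟩ := key
    have hsub : (Finset.univ.filter fun k : Fin 5 => (![3, r₁, r₂, a, b] : Fin 5 → ℕ) k ∣ reeCard m₁) ⊆ {i, j} := by
      intro k hk
      rw [Finset.mem_insert, Finset.mem_singleton]
      exact hij k (Finset.mem_filter.1 hk).2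
    exact (Finset.card_le_card hsub).trans Finset.card_le_two

theorem cls_seven {m : ℕ} (hm : 1 ≤ m) : 7 ∣ reeCard m ∧ cls m 7 ≠ 0 ∧ cls m 7 ≠ 1 := by
  have h27 : ∀ k : ℕ, 3 ^ (6 * k) % 7 = 1 := by
    intro k
    rw [pow_mul, Nat.pow_mod]
    norm_num
  have hmod : ∀ m : ℕ, 3 ^ (2 * m + 1) % 7 = 3 ∨ 3 ^ (2 * m + 1) % 7 = 6 ∨ 3 ^ (2 * m + 1) % 7 = 5 := by
    intro m
    induction m with
    | zero => left; norm_num
    | succ m ih =>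
      have h1 : 3 ^ (2 * (m + 1) + 1) = 9 * 3 ^ (2 * m + 1) := by
        rw [show 2 * (m + 1) + 1 = 2 + (2 * m + 1) by ring, pow_add]; norm_num
      rw [h1]
      omega
  have hm7 := hmod m
  have h71 : ¬ 7 ∣ 3 ^ (2 * m + 1) - 1 := by
    have h0 : 0 < 3 ^ (2 * m + 1) := by positivity
    generalize 3 ^ (2 * m + 1) = q at *
    omega
  have h7c : 7 ∣ (3 ^ (2 * m + 1)) ^ 3 + 1 := by
    rw [Nat.dvd_iff_mod_eq_zero, Nat.add_mod, Nat.pow_mod]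
    rcases hm7 with h | h | h <;> rw [h] <;> norm_num
  refine ⟨?_, ?_, ?_⟩
  · unfold reeCard
    exact (h7c.mul_left _).mul_right _
  · rw [cls, if_neg (by norm_num), if_neg h71]
    split_ifs <;> decide
  · rw [cls, if_neg (by norm_num), if_neg h71]
    split_ifs <;> decide

end Cfsg.Agent.H389.RSq
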